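import Groth.Prelude.Def_CycAlg
import Mathlib.RingTheory.Localization.AtPrime.Basic
import Mathlib.RingTheory.Localization.BaseChange
import Mathlib.RingTheory.Localization.Away.Basic
import Mathlib.RingTheory.KrullDimension.Basic
import Mathlib.RingTheory.Ideal.MinimalPrime.Localization
import Mathlib.RingTheory.Noetherian.Basic
import Mathlib.Algebra.Algebra.Operations

/-!
Finite birational extensions of the localisations at the primes over a regular element of a two dimensional
local ring glue to a finite extension.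
-/

set_option autoImplicit false
set_option linter.style.haveILetI false
set_option linter.unusedSectionVars false

universe u

open TensorProduct

noncomputable section

namespace Groth.L07.FinExtGlue

variable {A : Type u} [CommRing A] (t : A) {r : ℕ} (q : Fin r → Ideal A) [∀ i, (q i).IsPrime]
  (B : Fin r → Type u) [∀ i, CommRing (B i)] [∀ i, Algebra (Localization.AtPrime (q i)) (B i)]
  [∀ i, Algebra A (B i)] [∀ i, IsScalarTower A (Localization.AtPrime (q i)) (B i)]

/-- The extension with `t` inverted. -/
abbrev Bt (i : Fin r) : Type u := Localization.Away (algebraMap A (B i) t)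

/-- The map between the rings with `t` inverted. -/
def φ (i : Fin r) : Localization.Away t →ₐ[A] Bt t B i :=
  IsLocalization.liftAlgHom (M := Submonoid.powers t) (f := Algebra.ofId A (Bt t B i)) fun y => by
    obtain ⟨n, hn⟩ := y.2
    rw [show (y : A) = t ^ n from hn.symm, map_pow]
    refine IsUnit.pow n ?_
    rw [Algebra.ofId_apply, IsScalarTower.algebraMap_apply A (B i) (Bt t B i)]
    exact IsLocalization.Away.algebraMap_isUnit _

/-- The inclusion of the extension into its localisation. -/
def ι (i : Fin r) : B i →ₐ[A] Bt t B i := IsScalarTower.toAlgHom A (B i) (Bt t B i)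

/-- The elements which lie in every extension. -/
def T : Subalgebra A (Localization.Away t) := ⨅ i, (ι t B i).range.comap (φ t B i)

theorem mem_T {z : Localization.Away t} : z ∈ T t B ↔ ∀ i, ∃ b, ι t B i b = φ t B i z := by
  simp only [T, Algebra.mem_iInf, Subalgebra.mem_comap, AlgHom.mem_range]

/-- The elements which lie in every extension with bounded denominator. -/
def C (N : ℕ) : Submodule A (Localization.Away t) :=
  Subalgebra.toSubmodule (T t B) ⊓
    (LinearMap.range (Algebra.linearMap A (Localization.Away t))).comap (LinearMap.lsmul A (Localization.Away t) (t ^ N))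

theorem mem_C {N : ℕ} {z : Localization.Away t} :
    z ∈ C t B N ↔ z ∈ T t B ∧ ∃ a, algebraMap A _ a = t ^ N • z := Iff.rfl

variable (ht : t ∈ nonZeroDivisors A)
include ht

theorem algebraMap_injective : Function.Injective (algebraMap A (Localization.Away t)) :=
  IsLocalization.injective _ (powers_le.2 ht)
where
  powers_le {M : Submonoid A} : Submonoid.powers t ≤ M ↔ t ∈ M := Submonoid.powers_le

theorem smul_injective (N : ℕ) : Function.Injective fun z : Localization.Away t => t ^ N • z := by
  intro a b h
  have hu : IsUnit (algebraMap A (Localization.Away t) (t ^ N)) := by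
    rw [map_pow]
    exact (IsLocalization.Away.algebraMap_isUnit t).pow N
  simp only [Algebra.smul_def] at h
  exact hu.mul_left_cancel h

theorem fg_C [IsNoetherianRing A] (N : ℕ) : (C t B N).FG := by
  haveI : IsNoetherian A ↥(LinearMap.range (Algebra.linearMap A (Localization.Away t))) :=
    isNoetherian_range _
  let g : C t B N →ₗ[A] ↥(LinearMap.range (Algebra.linearMap A (Localization.Away t))) :=
    LinearMap.codRestrict _ ((LinearMap.lsmul A (Localization.Away t) (t ^ N)).comp (C t B N).subtype) fun z => z.2.2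
  have hg : Function.Injective g := fun a b h => Subtype.ext (smul_injective t ht N (congrArg Subtype.val h))
  haveI : IsNoetherian A (C t B N) := isNoetherian_of_injective g hg
  exact (Submodule.fg_top _).1 (IsNoetherian.noetherian ⊤)

variable (hB : ∀ i, Function.Injective (algebraMap (Localization.AtPrime (q i)) (B i)))
  (htB : ∀ i (b : B i), algebraMap A (B i) t * b = 0 → b = 0)
include htB

theorem ι_injective (i : Fin r) : Function.Injective (ι t B i) := by
  refine IsLocalization.injective (Bt t B i) (M := Submonoid.powers (algebraMap A (B i) t)) ?_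
  rw [Submonoid.powers_le, mem_nonZeroDivisors_iff_right]
  exact fun b hb => htB i b (by rwa [mul_comm])

include hB

theorem exists_of_φ_eq_zero (i : Fin r) {z : Localization.Away t} (hz : φ t B i z = 0) :
    ∃ u ∉ q i, u • z = 0 := by
  obtain ⟨⟨c, y⟩, hcy⟩ := IsLocalization.surj (Submonoid.powers t) z
  have h1 : φ t B i (algebraMap A _ c) = 0 := by rw [← hcy, map_mul, hz, zero_mul]
  rw [AlgHom.commutes, IsScalarTower.algebraMap_apply A (B i) (Bt t B i)] at h1
  have h2 : algebraMap A (B i) c = 0 := ι_injective t B ht htB i (h1.trans (map_zero _).symm)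
  rw [IsScalarTower.algebraMap_apply A (Localization.AtPrime (q i)) (B i)] at h2
  have h3 : algebraMap A (Localization.AtPrime (q i)) c = 0 := hB i (h2.trans (map_zero _).symm)
  obtain ⟨⟨u, hu⟩, hu'⟩ := (IsLocalization.map_eq_zero_iff (q i).primeCompl _ c).1 h3
  refine ⟨u, hu, ?_⟩
  have hy : IsUnit (algebraMap A (Localization.Away t) y) := IsLocalization.map_units _ y
  refine hy.mul_left_eq_zero.1 ?_
  rw [Algebra.smul_def, mul_assoc, hcy, ← map_mul]
  exact (congrArg _ hu').trans (map_zero _)

variable {N : ℕ} (hN : ∀ i (b : B i), ∃ α, algebraMap (Localization.AtPrime (q i)) (B i) α = t ^ N • b)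
include hN

theorem exists_smul_mem_C (i : Fin r) {z : Localization.Away t} (hz : z ∈ T t B) :
    ∃ w ∉ q i, w • z ∈ C t B N := by
  obtain ⟨b, hb⟩ := (mem_T t B).1 hz i
  obtain ⟨α, hα⟩ := hN i b
  obtain ⟨⟨a, s⟩, has⟩ := IsLocalization.surj (q i).primeCompl α
  have h1 : φ t B i ((s : A) • t ^ N • z - algebraMap A _ a) = 0 := by
    have h2 : algebraMap A (B i) a = (s : A) • t ^ N • b := by
      rw [IsScalarTower.algebraMap_apply A (Localization.AtPrime (q i)) (B i), ← has, map_mul, hα,
        ← IsScalarTower.algebraMap_apply, mul_comm, Algebra.smul_def (s : A)]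
    rw [map_sub, map_smul, map_smul, ← hb, AlgHom.commutes, IsScalarTower.algebraMap_apply A (B i) (Bt t B i), h2,
      ← map_smul, ← map_smul]
    exact sub_self _
  obtain ⟨u, hu, hu'⟩ := exists_of_φ_eq_zero t q B ht hB htB i h1
  refine ⟨u * s, fun h => ((‹∀ i, (q i).IsPrime› i).mem_or_mem h).elim hu s.2,
    (T t B).smul_mem hz _, u * a, ?_⟩
  rw [smul_sub, sub_eq_zero] at hu'
  show algebraMap A _ (u * a) = t ^ N • (u * (s : A)) • z
  rw [map_mul, ← Algebra.smul_def, ← hu', mul_smul, smul_comm (t ^ N) u, smul_comm (t ^ N) (s : A)]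

theorem exists_smul_le_C (i : Fin r) {P : Submodule A (Localization.Away t)} (hP : P.FG)
    (hPT : P ≤ Subalgebra.toSubmodule (T t B)) : ∃ w ∉ q i, ∀ z ∈ P, w • z ∈ C t B N := by
  induction P, hP using Submodule.fg_induction with
  | singleton z =>
    obtain ⟨w, hw, hwz⟩ := exists_smul_mem_C t q B ht hB htB hN i (hPT (Submodule.mem_span_singleton_self z))
    refine ⟨w, hw, fun y hy => ?_⟩
    obtain ⟨c, rfl⟩ := Submodule.mem_span_singleton.1 hy
    rw [smul_comm]
    exact Submodule.smul_mem _ _ hwz
  | sup M₁ M₂ _ _ h₁ h₂ =>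
    obtain ⟨w₁, hw₁, hM₁⟩ := h₁ (le_trans le_sup_left hPT)
    obtain ⟨w₂, hw₂, hM₂⟩ := h₂ (le_trans le_sup_right hPT)
    refine ⟨w₁ * w₂, fun h => ((‹∀ i, (q i).IsPrime› i).mem_or_mem h).elim hw₁ hw₂, fun z hz => ?_⟩
    obtain ⟨z₁, hz₁, z₂, hz₂, rfl⟩ := Submodule.mem_sup.1 hz
    rw [smul_add, mul_comm, mul_smul]
    refine add_mem (Submodule.smul_mem _ _ (hM₁ _ hz₁)) ?_
    rw [mul_comm, mul_smul]
    exact Submodule.smul_mem _ _ (hM₂ _ hz₂)

omit hN

theorem exists_preimage (hjq : ∀ i j, j ≠ i → ∃ v ∈ q j, v ∉ q i)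
    (hrad : ∀ j, ∀ v ∈ q j, ∃ M : ℕ, algebraMap A (Localization.AtPrime (q j)) (v ^ M) ∈
      Ideal.span {algebraMap A (Localization.AtPrime (q j)) (t ^ N)})
    (hN : ∀ i (b : B i), ∃ α, algebraMap (Localization.AtPrime (q i)) (B i) α = t ^ N • b)
    (i : Fin r) (b : B i) : ∃ c ∈ C t B N, ∃ s ∉ q i, φ t B i c = ι t B i (s • b) := by
  classical
  obtain ⟨α, hα⟩ := hN i b
  obtain ⟨⟨a, s⟩, has⟩ := IsLocalization.surj (q i).primeCompl α
  have hu : IsUnit (algebraMap A (Localization.Away t) (t ^ N)) := by
    rw [map_pow]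
    exact (IsLocalization.Away.algebraMap_isUnit t).pow N
  let z : Localization.Away t := (hu.unit⁻¹ : (Localization.Away t)ˣ).1 * algebraMap A _ a
  have hz : t ^ N • z = algebraMap A _ a := by
    rw [Algebra.smul_def, ← mul_assoc, hu.mul_val_inv, one_mul]
  have hv : ∀ j, ∃ v ∉ q i, j ≠ i → ∃ e, algebraMap A (Localization.AtPrime (q j)) v =
      algebraMap A (Localization.AtPrime (q j)) (t ^ N) * e := fun j => by
    by_cases hji : j = i
    · exact ⟨1, fun h => (‹∀ i, (q i).IsPrime› i).ne_top ((Ideal.eq_top_iff_one _).2 h), fun h => absurd hji h⟩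
    · obtain ⟨v, hvj, hvi⟩ := hjq i j hji
      obtain ⟨M, hM⟩ := hrad j v hvj
      obtain ⟨e, he⟩ := Ideal.mem_span_singleton'.1 hM
      exact ⟨v ^ M, fun h => hvi ((‹∀ i, (q i).IsPrime› i).mem_of_pow_mem _ h), fun _ => ⟨e, by rw [← he, mul_comm]⟩⟩
  choose v hvi hve using hv
  let w := ∏ j, v j
  have hwi : w ∉ q i := fun h => by
    obtain ⟨j, -, hj⟩ := ((‹∀ i, (q i).IsPrime› i).prod_mem_iff).1 h
    exact hvi j hj
  have hφz : φ t B i z = ι t B i ((s : A) • b) := by
    have h2 : algebraMap A (B i) a = t ^ N • (s : A) • b := by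
      rw [IsScalarTower.algebraMap_apply A (Localization.AtPrime (q i)) (B i), ← has, map_mul, hα,
        ← IsScalarTower.algebraMap_apply, mul_comm, smul_comm, Algebra.smul_def (s : A)]
    have hu' : IsUnit (algebraMap A (Bt t B i) (t ^ N)) := by
      rw [IsScalarTower.algebraMap_apply A (B i) (Bt t B i), map_pow, map_pow]
      exact (IsLocalization.Away.algebraMap_isUnit _).pow N
    refine hu'.mul_left_cancel ?_
    rw [← Algebra.smul_def, ← map_smul, hz, AlgHom.commutes, IsScalarTower.algebraMap_apply A (B i) (Bt t B i), h2,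
      ← Algebra.smul_def, ← map_smul]
    rfl
  refine ⟨w • z, ⟨(mem_T t B).2 fun j => ?_, w * a, ?_⟩, w * s,
    fun h => ((‹∀ i, (q i).IsPrime› i).mem_or_mem h).elim hwi s.2, ?_⟩
  · by_cases hji : j = i
    · subst hji
      exact ⟨w • ((s : A) • b), by rw [map_smul (φ t B _) w z, hφz, ← map_smul]⟩
    · obtain ⟨e, he⟩ := hve j hji
      obtain ⟨w', hw'⟩ := Finset.dvd_prod_of_mem v (Finset.mem_univ j)
      refine ⟨algebraMap (Localization.AtPrime (q j)) (B j) (e * algebraMap A _ (w' * a)), ?_⟩
      have hu' : IsUnit (algebraMap A (Bt t B j) (t ^ N)) := by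
        rw [IsScalarTower.algebraMap_apply A (B j) (Bt t B j), map_pow, map_pow]
        exact (IsLocalization.Away.algebraMap_isUnit _).pow N
      refine hu'.mul_left_cancel ?_
      have hR : algebraMap A (Bt t B j) (t ^ N) * φ t B j (w • z) = algebraMap A (Bt t B j) (w * a) := by
        rw [← Algebra.smul_def, ← map_smul, smul_comm, hz, Algebra.smul_def, ← map_mul, AlgHom.commutes]
      have hL : algebraMap A (B j) (w * a) = algebraMap A (B j) (t ^ N) *
          algebraMap (Localization.AtPrime (q j)) (B j) (e * algebraMap A _ (w' * a)) := by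
        rw [show w * a = v j * (w' * a) by rw [show w = v j * w' from hw']; ring,
          IsScalarTower.algebraMap_apply A (Localization.AtPrime (q j)) (B j),
          IsScalarTower.algebraMap_apply A (Localization.AtPrime (q j)) (B j) (t ^ N), ← map_mul,
          ← mul_assoc (algebraMap A (Localization.AtPrime (q j)) (t ^ N)), ← he,
          ← map_mul]
      rw [hR, IsScalarTower.algebraMap_apply A (B j) (Bt t B j), IsScalarTower.algebraMap_apply A (B j) (Bt t B j) (w * a),
        hL]
      exact (map_mul (algebraMap (B j) (Bt t B j)) _ _).symm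
  · show algebraMap A _ (w * a) = t ^ N • w • z
    rw [smul_comm, hz, Algebra.smul_def, map_mul]
  · rw [map_smul, hφz, ← map_smul, mul_smul]

end Groth.L07.FinExtGlue
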