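import Groth.Agent.L07.FinExtGlue.Basic
import Mathlib.RingTheory.Finiteness.Subalgebra

/-!
The glued finite extension and its localisations.
-/

set_option autoImplicit false
set_option linter.style.haveILetI false
set_option linter.unusedSectionVars false

universe u

open TensorProduct
open scoped Pointwise

noncomputable section

namespace Groth.L07.FinExtGlue

variable {A : Type u} [CommRing A]

/-- The primes over a regular element strictly below the maximal ideal are incomparable in dimension two. -/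
theorem eq_of_le [IsLocalRing A] (hA : ringKrullDim A = 2) {t : A} (htnz : t ∈ nonZeroDivisors A)
    {p p' : Ideal A} [p.IsPrime] [p'.IsPrime] (hp : t ∈ p) (hp' : p' ≠ IsLocalRing.maximalIdeal A) (h : p ≤ p') :
    p = p' := by
  by_contra hne
  obtain ⟨p₀, hp₀, hle⟩ := Ideal.exists_minimalPrimes_le (I := (⊥ : Ideal A)) (J := p) bot_le
  haveI := hp₀.1.1
  have h0 : p₀ < p := lt_of_le_of_ne hle fun e =>
    Set.disjoint_left.1 (Ideal.disjoint_nonZeroDivisors_of_mem_minimalPrimes (R := A) hp₀) (e ▸ hp) htnz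
  let a : PrimeSpectrum A := ⟨p₀, inferInstance⟩
  let b : PrimeSpectrum A := ⟨p, inferInstance⟩
  let c : PrimeSpectrum A := ⟨p', inferInstance⟩
  let d : PrimeSpectrum A := ⟨IsLocalRing.maximalIdeal A, inferInstance⟩
  have hbc : b < c := (lt_of_le_of_ne h hne : p < p')
  have hcd : c < d :=
    (lt_of_le_of_ne (IsLocalRing.le_maximalIdeal ‹p'.IsPrime›.ne_top) hp' : p' < IsLocalRing.maximalIdeal A)
  have hab : a < b := h0
  let s : LTSeries (PrimeSpectrum A) := LTSeries.mk 3 ![a, b, c, d]
    (Fin.strictMono_iff_lt_succ.2 fun i => by fin_cases i <;> assumption)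
  have h3 : (3 : WithBot ℕ∞) ≤ ringKrullDim A := le_trans (le_of_eq rfl) (Order.LTSeries.length_le_krullDim s)
  rw [hA] at h3
  exact absurd h3 (by decide)

variable (t : A) {r : ℕ} (q : Fin r → Ideal A) [∀ i, (q i).IsPrime]

theorem exists_pow_mem_span [IsLocalRing A] (hA : ringKrullDim A = 2) (htnz : t ∈ nonZeroDivisors A)
    (hinj : Function.Injective q) (hqm : ∀ i, q i ≠ IsLocalRing.maximalIdeal A) (htq : ∀ i, t ∈ q i)
    (hV : ∀ p : Ideal A, p.IsPrime → t ∈ p → p = IsLocalRing.maximalIdeal A ∨ ∃ i, p = q i) (N : ℕ) (j : Fin r)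
    (v : A) (hv : v ∈ q j) : ∃ M : ℕ, algebraMap A (Localization.AtPrime (q j)) (v ^ M) ∈
      Ideal.span {algebraMap A (Localization.AtPrime (q j)) (t ^ N)} := by
  have h : algebraMap A (Localization.AtPrime (q j)) v ∈
      (Ideal.span {algebraMap A (Localization.AtPrime (q j)) (t ^ N)}).radical := by
    rw [Ideal.radical_eq_sInf, Submodule.mem_sInf]
    rintro P ⟨hP, hPp⟩
    haveI := hPp
    have htP : t ∈ Ideal.comap (algebraMap A (Localization.AtPrime (q j))) P := by
      refine hPp.mem_of_pow_mem N ?_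
      rw [← map_pow]
      exact hP (Ideal.mem_span_singleton_self _)
    have hle : Ideal.comap (algebraMap A (Localization.AtPrime (q j))) P ≤ q j := by
      refine le_trans (Ideal.comap_mono (IsLocalRing.le_maximalIdeal hPp.ne_top)) ?_
      exact (IsLocalization.AtPrime.under_maximalIdeal _ (q j)).le
    rcases hV _ inferInstance htP with e | ⟨i, e⟩
    · exact absurd (le_antisymm (IsLocalRing.le_maximalIdeal (Ideal.IsPrime.ne_top (I := q j) inferInstance)) (e ▸ hle)) (hqm j)
    · rw [e] at hle
      have hij : i = j := hinj (eq_of_le hA htnz (htq i) (hqm j) hle)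
      subst hij
      exact Ideal.mem_comap.1 (e.symm ▸ hv)
  obtain ⟨M, hM⟩ := h
  exact ⟨M, by simpa only [map_pow] using hM⟩

variable (B : Fin r → Type u) [∀ i, CommRing (B i)] [∀ i, Algebra (Localization.AtPrime (q i)) (B i)]
  [∀ i, Algebra A (B i)] [∀ i, IsScalarTower A (Localization.AtPrime (q i)) (B i)]

variable [IsNoetherianRing A] (ht : t ∈ nonZeroDivisors A)
  (hB : ∀ i, Function.Injective (algebraMap (Localization.AtPrime (q i)) (B i)))
  (htB : ∀ i (b : B i), algebraMap A (B i) t * b = 0 → b = 0) {N : ℕ}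
  (hN : ∀ i (b : B i), ∃ α, algebraMap (Localization.AtPrime (q i)) (B i) α = t ^ N • b)
  (hjq : ∀ i j, j ≠ i → ∃ v ∈ q j, v ∉ q i)
  (hrad : ∀ j, ∀ v ∈ q j, ∃ M : ℕ, algebraMap A (Localization.AtPrime (q j)) (v ^ M) ∈
    Ideal.span {algebraMap A (Localization.AtPrime (q j)) (t ^ N)})
include ht hB htB hN hjq hrad

theorem exists_finExt : ∃ (D : Subalgebra A (Localization.Away t)), CycAlg.IsFinExt A D (Ideal.span {t}) ∧
    ∀ i, Nonempty (TensorProduct A (Localization.AtPrime (q i)) D ≃ₐ[Localization.AtPrime (q i)] B i) := by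
  classical
  let C₀ := C t B N
  let J : Ideal A :=
    { carrier := {w | ∀ z ∈ C₀ * C₀, w • z ∈ C₀}
      add_mem' := fun ha hb z hz => by rw [add_smul]; exact add_mem (ha z hz) (hb z hz)
      zero_mem' := fun z _ => by rw [zero_smul]; exact zero_mem _
      smul_mem' := fun c a ha z hz => by rw [smul_eq_mul, mul_smul]; exact Submodule.smul_mem _ _ (ha z hz) }
  have hCT : C₀ ≤ Subalgebra.toSubmodule (T t B) := inf_le_left
  have hJ : ∀ i, ∃ w ∈ J, w ∉ q i := fun i => by
    obtain ⟨w, hw, hwz⟩ := exists_smul_le_C t q B ht hB htB hN i (Submodule.FG.mul (fg_C t B ht N) (fg_C t B ht N))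
      (Submodule.mul_le.2 fun a ha b hb => (T t B).mul_mem (hCT ha) (hCT hb))
    exact ⟨w, hwz, hw⟩
  have hone : (1 : Localization.Away t) ∈ C₀ :=
    ⟨(T t B).one_mem, t ^ N, by
      show algebraMap A _ (t ^ N) = t ^ N • (1 : Localization.Away t)
      rw [Algebra.smul_def, mul_one]⟩
  have hJC : J • C₀ ≤ C₀ := Submodule.smul_le.2 fun w _ c hc => Submodule.smul_mem _ _ hc
  let P : Submodule A (Localization.Away t) := 1 ⊔ J • C₀
  have hPC : P ≤ C₀ := sup_le (Submodule.one_le.2 hone) hJC
  have hJJ : ∀ x ∈ J • C₀, ∀ y ∈ J • C₀, x * y ∈ J • C₀ := by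
    intro x hx y hy
    refine Submodule.smul_induction_on hx (fun w hw c hc => ?_) fun a b ha hb => by rw [add_mul]; exact add_mem ha hb
    refine Submodule.smul_induction_on hy (fun w' hw' c' hc' => ?_) fun a b ha hb => by rw [mul_add]; exact add_mem ha hb
    rw [smul_mul_assoc, mul_smul_comm]
    exact Submodule.smul_mem_smul hw (hw' _ (Submodule.mul_mem_mul hc hc'))
  have hmul : ∀ x y, x ∈ P → y ∈ P → x * y ∈ P := by
    intro x y hx hy
    obtain ⟨x₁, hx₁, x₂, hx₂, rfl⟩ := Submodule.mem_sup.1 hx
    obtain ⟨y₁, hy₁, y₂, hy₂, rfl⟩ := Submodule.mem_sup.1 hy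
    obtain ⟨a, rfl⟩ := Submodule.mem_one.1 hx₁
    obtain ⟨b, rfl⟩ := Submodule.mem_one.1 hy₁
    rw [add_mul, mul_add, mul_add, ← map_mul]
    refine add_mem (add_mem (Submodule.mem_sup_left (Submodule.mem_one.2 ⟨a * b, rfl⟩)) ?_) (add_mem ?_
      (Submodule.mem_sup_right (hJJ _ hx₂ _ hy₂)))
    · rw [← Algebra.smul_def]
      exact Submodule.mem_sup_right (Submodule.smul_mem _ _ hy₂)
    · rw [mul_comm, ← Algebra.smul_def]
      exact Submodule.mem_sup_right (Submodule.smul_mem _ _ hx₂)
  let D : Subalgebra A (Localization.Away t) := P.toSubalgebra (Submodule.mem_sup_left (Submodule.one_le.1 le_rfl)) hmul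
  refine ⟨D, ⟨fun a b h => algebraMap_injective t ht (congrArg Subtype.val h), ?_, N, ?_⟩, fun i => ?_⟩
  · haveI : IsNoetherian A C₀ := isNoetherian_of_fg_of_noetherian _ (fg_C t B ht N)
    haveI : IsNoetherian A P :=
      isNoetherian_of_injective (Submodule.inclusion hPC) (Submodule.inclusion_injective hPC)
    exact Module.Finite.equiv (LinearEquiv.refl A P : P ≃ₗ[A] D)
  · intro w hw b
    rw [Ideal.span_singleton_pow, Ideal.mem_span_singleton'] at hw
    obtain ⟨c, rfl⟩ := hw
    obtain ⟨a, ha⟩ := (hPC b.2).2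
    refine ⟨c * a, Subtype.ext ?_⟩
    change algebraMap A _ a = t ^ N • (b : Localization.Away t) at ha
    show algebraMap A (Localization.Away t) (c * a) = (c * t ^ N) • (b : Localization.Away t)
    rw [map_mul, mul_smul, ← ha, Algebra.smul_def]
  · have hmemT : ∀ d : D, ∃ b, ι t B i b = φ t B i d := fun d => (mem_T t B).1 (hCT (hPC d.2)) i
    let χ₀ : D →ₐ[A] B i :=
      { toFun := fun d => (hmemT d).choose
        map_one' := ι_injective t B ht htB i (by rw [(hmemT 1).choose_spec, map_one]; exact map_one _)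
        map_mul' := fun x y => ι_injective t B ht htB i (by
          rw [(hmemT (x * y)).choose_spec, map_mul, (hmemT x).choose_spec, (hmemT y).choose_spec]
          exact map_mul (φ t B i) _ _)
        map_zero' := ι_injective t B ht htB i (by rw [(hmemT 0).choose_spec, map_zero]; exact map_zero _)
        map_add' := fun x y => ι_injective t B ht htB i (by
          rw [(hmemT (x + y)).choose_spec, map_add, (hmemT x).choose_spec, (hmemT y).choose_spec]
          exact map_add (φ t B i) _ _)
        commutes' := fun a => ι_injective t B ht htB i (by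
          rw [(hmemT (algebraMap A D a)).choose_spec, AlgHom.commutes]
          exact AlgHom.commutes (φ t B i) a) }
    have hχ₀ : ∀ d : D, ι t B i (χ₀ d) = φ t B i d := fun d => (hmemT d).choose_spec
    haveI : IsLocalizedModule (q i).primeCompl χ₀.toLinearMap := by
      refine ⟨fun x => ?_, fun b => ?_, fun {x₁ x₂} h => ?_⟩
      · rw [Module.End.isUnit_iff]
        have hu : IsUnit (algebraMap A (B i) x) := by
          rw [IsScalarTower.algebraMap_apply A (Localization.AtPrime (q i)) (B i)]
          exact (IsLocalization.map_units _ x).map _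
        change Function.Bijective fun y : B i => (x : A) • y
        simpa [Algebra.smul_def] using IsUnit.isUnit_iff_mulLeft_bijective.1 hu
      · obtain ⟨c, hc, s, hs, hcs⟩ := exists_preimage t q B ht hB htB hjq hrad hN i b
        obtain ⟨w, hwJ, hw⟩ := hJ i
        refine ⟨(⟨w • c, Submodule.mem_sup_right (Submodule.smul_mem_smul hwJ hc)⟩,
          ⟨w * s, fun h => ((‹∀ i, (q i).IsPrime› i).mem_or_mem h).elim hw hs⟩), ?_⟩
        apply ι_injective t B ht htB i
        show ι t B i ((w * s) • b) = ι t B i (χ₀ _)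
        rw [hχ₀, map_smul, map_smul, hcs, mul_smul, map_smul]
      · have h' : φ t B i ((x₁ : Localization.Away t) - x₂) = 0 := by
          rw [map_sub, ← hχ₀, ← hχ₀, show χ₀ x₁ = χ₀ x₂ from h, sub_self]
        obtain ⟨u, hu, hu'⟩ := exists_of_φ_eq_zero t q B ht hB htB i h'
        refine ⟨⟨u, hu⟩, Subtype.ext ?_⟩
        rw [smul_sub, sub_eq_zero] at hu'
        exact hu'
    let χ : TensorProduct A (Localization.AtPrime (q i)) D →ₐ[Localization.AtPrime (q i)] B i :=
      Algebra.TensorProduct.lift (Algebra.ofId _ _) χ₀ fun _ _ => Commute.all _ _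
    have hbc : IsBaseChange (Localization.AtPrime (q i)) χ₀.toLinearMap :=
      IsLocalizedModule.isBaseChange (q i).primeCompl _ _
    have hχ : (χ : TensorProduct A (Localization.AtPrime (q i)) D → B i) = hbc.equiv := by
      funext x
      induction x using TensorProduct.induction_on with
      | zero => rw [map_zero, map_zero]
      | add x y hx hy => rw [map_add, map_add, hx, hy]
      | tmul a d =>
        rw [hbc.equiv_tmul, Algebra.TensorProduct.lift_tmul, Algebra.ofId_apply, ← Algebra.smul_def]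
        rfl
    exact ⟨AlgEquiv.ofBijective χ (by rw [hχ]; exact hbc.equiv.bijective)⟩

end Groth.L07.FinExtGlue
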